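import Cfsg.Agent.H541.RatB0.RowOne
import Cfsg.Agent.H582.Sph.Lemma
import Cfsg.Agent.H116.HeckeD
import Cfsg.Agent.H35.ExcIdx

/-!
# `p ∣ q - 1`: all constituents of `1_P^G`, `P` parabolic, are in the principal `p`-block (helper631, S4933)

* `mem_one` : root group datum, `Q ≤ T` a `p`-group with `C_G(Q) ≤ T`;
* `mem_one_chev`, `mem_one_E6`, `mem_one_E7`, `mem_one_E8`, `mem_one_F4`, `mem_one_G2`.
-/

set_option autoImplicit false
set_option linter.unusedSectionVars false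

namespace Cfsg.Agent.H631.HT

open CoxeterSystem Cfsg Cfsg.Lie Cfsg.Lie.ChevalleyDatum
open Cfsg.Agent.ChevalleyStructure Cfsg.Agent.ChevalleyStructure.Elts Cfsg.Agent.ChevalleyStructure.CoxeterGeom
  Cfsg.Agent.ChevalleyStructure.CoxeterGeomTypes Cfsg.Agent.ChevalleyStructure.NPerm
open Cfsg.Agent.Tits.Roots Cfsg.Agent.Tits.Core Cfsg.Agent.Nodes Cfsg.Agent.Nodes.Reps Cfsg.Agent.Nodes.BNOf
  Cfsg.Agent.Nodes.RGDChev Cfsg.Agent.Nodes.Bruhat Cfsg.Agent.Nodes.NormalForm Cfsg.Agent.Nodes.StabComb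
  Cfsg.Agent.Nodes.LeviDec
open Cfsg.Agent.KFacts.RgdField Cfsg.Agent.KFacts.RgdChevCoord Cfsg.Agent.BpExc.TorCent Cfsg.Agent.BpExc.TorChev
open Cfsg.Agent.BpExc.TowChev Cfsg.Agent.H129.TorusChar Cfsg.Agent.H932.BR Cfsg.Agent.H541.RatB0
open Cfsg.Agent.H116.HeckeD (perm)

universe u

section Rgd

variable {I W : Type*} {Y : Type u} [Fintype I] [DecidableEq I] [Group W] [Finite W] [Group Y] [Fintype Y]
    {M : CoxeterMatrix I} {cs : CoxeterSystem M W} {A : I → I → ℤ} {h : IsCartan M A} {r : ℕ} {T : Subgroup Y}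
    {n : I → Y} {X : (I → ℤ) → Subgroup Y} (R : RGD cs h r T n X) (hG : GG cs h T X = ⊤)

include R hG

/-- **All constituents of `1_P^G` are in the principal block.** -/
theorem mem_one {p : ℕ} {M' : Ideal AlgInt} (hM : IsPModular p M') {Q : Subgroup Y} (hQ : IsPGroup p Q)
    (hQT : Q ≤ T) (hC : Subgroup.centralizer (Q : Set Y) ≤ T) (J : Set I) (χ : IrrCharacter Y)
    (hχ : classInner (perm Y (Y ⧸ PJ cs h T X J)) (χ : Y → ℂ) ≠ 0) : χ ∈ principalBlock M' Y := by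
  classical
  have hTP : T ≤ PJ cs h T X J := RGD.T_le_B.trans B_le_PJ
  refine H582.Sph.mem_principal_of_iness (X := Y ⧸ PJ cs h T X J) hM ?_ χ hχ
  intro x y hxy
  obtain ⟨a, rfl⟩ := QuotientGroup.mk_surjective x
  obtain ⟨b, rfl⟩ := QuotientGroup.mk_surjective y
  obtain ⟨w, hw⟩ := (mem_GG R).1 (show a⁻¹ * b ∈ GG cs h T X by rw [hG]; exact Subgroup.mem_top _)
  obtain ⟨b₁, hb₁, k, hk, b₂, hb₂, e⟩ := hw
  have hb1P : b₁ ∈ PJ cs h T X J := B_le_PJ hb₁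
  have hb2P : b₂ ∈ PJ cs h T X J := B_le_PJ hb₂
  have hkn := hk.mem_normalizer
  have hab : ((b : Y) : Y ⧸ PJ cs h T X J) = ((a * b₁ * k : Y) : Y ⧸ PJ cs h T X J) := by
    rw [QuotientGroup.eq]
    have e1 : b = a * (b₁ * k * b₂) := by rw [← e]; group
    have e2 : b⁻¹ * (a * b₁ * k) = b₂⁻¹ := by rw [e1]; group
    rw [e2]
    exact inv_mem hb2P
  have haa : ((a : Y) : Y ⧸ PJ cs h T X J) = ((a * b₁ : Y) : Y ⧸ PJ cs h T X J) := by
    rw [QuotientGroup.eq]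
    have e2 : a⁻¹ * (a * b₁) = b₁ := by group
    rw [e2]
    exact hb1P
  refine ⟨Q.map (MulAut.conj (a * b₁)).toMonoidHom, hQ.map _, ?_, ?_, ?_⟩
  · rintro _ ⟨t, ht, rfl⟩
    rw [haa]
    show (((a * b₁) * t * (a * b₁)⁻¹ * (a * b₁) : Y) : Y ⧸ PJ cs h T X J) = _
    rw [QuotientGroup.eq]
    have e2 : (a * b₁ * t * (a * b₁)⁻¹ * (a * b₁))⁻¹ * (a * b₁) = t⁻¹ := by group
    rw [e2]
    exact inv_mem (hTP (hQT ht))
  · rintro _ ⟨t, ht, rfl⟩
    rw [hab]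
    show (((a * b₁) * t * (a * b₁)⁻¹ * (a * b₁ * k) : Y) : Y ⧸ PJ cs h T X J) = _
    rw [QuotientGroup.eq]
    have e2 : (a * b₁ * t * (a * b₁)⁻¹ * (a * b₁ * k))⁻¹ * (a * b₁ * k) = k⁻¹ * t⁻¹ * k⁻¹⁻¹ := by group
    rw [e2]
    exact hTP ((Subgroup.mem_normalizer_iff.1 (inv_mem hkn) _).1 (inv_mem (hQT ht)))
  · intro g hg
    have h1 : (a * b₁)⁻¹ * g * (a * b₁) ∈ Subgroup.centralizer (Q : Set Y) := by
      rw [Subgroup.mem_centralizer_iff] at hg ⊢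
      intro t ht
      have h2 := hg _ ⟨t, ht, rfl⟩
      have h3 : (a * b₁) * t * (a * b₁)⁻¹ * g = g * ((a * b₁) * t * (a * b₁)⁻¹) := h2
      calc t * ((a * b₁)⁻¹ * g * (a * b₁)) = (a * b₁)⁻¹ * ((a * b₁) * t * (a * b₁)⁻¹ * g) * (a * b₁) := by group
        _ = (a * b₁)⁻¹ * (g * ((a * b₁) * t * (a * b₁)⁻¹)) * (a * b₁) := by rw [h3]
        _ = (a * b₁)⁻¹ * g * (a * b₁) * t := by group
    have h2 := hTP (hC h1)
    have h3 : g • ((a : Y) : Y ⧸ PJ cs h T X J) = ((a : Y) : Y ⧸ PJ cs h T X J) := by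
      rw [haa]
      show ((g * (a * b₁) : Y) : Y ⧸ PJ cs h T X J) = _
      rw [QuotientGroup.eq]
      have e2 : (g * (a * b₁))⁻¹ * (a * b₁) = ((a * b₁)⁻¹ * g * (a * b₁))⁻¹ := by group
      rw [e2]
      exact inv_mem h2
    rw [h3]
    exact hxy

end Rgd

section Main

variable {D : ChevalleyDatum} {l : ℕ} {M : CoxeterMatrix (Fin l)} (hp : IsType D l M)
  {W : Type*} [Group W] (cs : CoxeterSystem M W) {K : Type u} [Field K] [Finite K] [Fintype ↥(D.group K)]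

include hp cs

/-- **Untwisted groups, `p ∣ q - 1`.** -/
theorem mem_one_chev {p : ℕ} [hpp : Fact p.Prime] (hd : p ∣ Nat.card K - 1) {t : ℤ → Bool}
    (ht : ∀ d, t d = true → ¬ (p : ℤ) ∣ d) {S : List ℕ} (hS : ∀ s ∈ S, s < D.nroots)
    (hgen : ∀ f : (Fin l → ℤ) →ₗ[ℤ] (Fin l → ℤ), (∀ s ∈ S, f (vec D l s) = vec D l s) → ∀ i, f (sr i) = sr i)
    (hchk : chk D t S = true) {M' : Ideal AlgInt} (hM : IsPModular p M') (J : Set (Fin l))
    (χ : IrrCharacter ↥(D.group K))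
    (hχ : classInner (perm ↥(D.group K) (↥(D.group K) ⧸ PJ cs hp.isCartan (TT D K) (XX D l K) J))
      (χ : ↥(D.group K) → ℂ) ≠ 0) : χ ∈ principalBlock M' ↥(D.group K) := by
  classical
  unfold chk at hchk
  rw [Bool.and_eq_true, List.all_eq_true] at hchk
  obtain ⟨h1, h2⟩ := hchk
  obtain ⟨r, hr⟩ := CharP.exists K
  have : Fintype K := Fintype.ofFinite K
  have hrp : r.Prime := CharP.char_is_prime K r
  have : Fact r.Prime := ⟨hrp⟩
  have := finite_W hp cs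
  -- a root of unity of order `p`
  have hdvd : p ∣ Nat.card Kˣ := by rw [Nat.card_units]; exact hd
  obtain ⟨z, hz⟩ := exists_prime_orderOf_dvd_card' (G := Kˣ) p hdvd
  have hζ0 : (z : K) ≠ 0 := z.ne_zero
  have hζ : (z : K) ^ p = 1 := by
    rw [← Units.val_pow_eq_pow_val, ← hz, pow_orderOf_eq_one, Units.val_one]
  have hζz : ∀ m : ℤ, (z : K) ^ m = 1 → (p : ℤ) ∣ m := by
    intro m hm
    rw [← hz]
    apply orderOf_dvd_iff_zpow_eq_one.2
    apply Units.ext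
    rw [Units.val_zpow_eq_zpow_val, hm, Units.val_one]
  have hcent : Subgroup.centralizer ((QQ hp K p : Subgroup ↥(D.group K)) : Set ↥(D.group K)) ≤ TT D K := by
    refine cent_le_TT hp cs r (fun x hx => hx.1) ?_ ?_
    · intro x hx
      obtain ⟨s, hs, rfl⟩ := (isRoot_iff hp cs x).1 hx
      obtain ⟨i, hi, h3⟩ := anyL_spec (allL_spec h1 s hs)
      rw [hp.rank_eq] at hi
      refine ⟨hc hp ⟨i, hi⟩ (z : K), hc_mem_QQ hp hζ0 hζ _, ?_⟩
      rw [cX_hc hp _ hζ0, pairing_vec hp _ hs]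
      exact fun h4 => ht _ h3 (hζz _ h4)
    · intro w hw
      have h3 : ∀ s ∈ S, rep cs hp.isCartan w (vec D l s) = vec D l s := by
        intro s hs
        have hs' := hS s hs
        obtain ⟨r', hr', he⟩ := (isRoot_iff hp cs _).1 ((isRoot_vec hp cs hs').act w)
        rw [← he]
        have h4 := allL_spec (h2 s hs) r' hr'
        rw [Bool.or_eq_true, beq_iff_eq] at h4
        rcases h4 with h4 | h4
        · rw [h4]
        · exfalso
          obtain ⟨j, hj, h5⟩ := anyL_spec h4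
          rw [hp.rank_eq] at hj
          refine ht _ h5 (hζz _ ?_)
          have h6 := hw _ (hc_mem_QQ hp hζ0 hζ ⟨j, hj⟩) (vec D l s)
          rw [← he, cX_hc hp _ hζ0, cX_hc hp _ hζ0, pairing_vec hp _ hr', pairing_vec hp _ hs'] at h6
          rw [zpow_sub₀ hζ0, h6, div_self (zpow_ne_zero _ hζ0)]
      exact eq_one_of_fix cs hp.isCartan w (hgen _ h3)
  have hR := rgd (K := K) hp cs r
  have hGG := GG_top (K := K) hp cs
  have hQT : QQ hp K p ≤ TT D K := fun x hx => hx.1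
  have hQp : IsPGroup p (QQ hp K p) := fun x => ⟨1, by
    rw [pow_one]
    exact Subtype.ext x.2.2⟩
  exact mem_one hR hGG hM hQp hQT hcent J χ hχ

/-- the version with tables -/
theorem mem_one_simp {p : ℕ} [hpp : Fact p.Prime]
    (hp2 : p ≠ 2) (hd : p ∣ Nat.card K - 1)
    (h : chk D t3 (simp D) = true ∧ chk D t5 (simp D) = true ∧ chk D t7 (simp D) = true)
    {M' : Ideal AlgInt} (hM : IsPModular p M') (J : Set (Fin l)) (χ : IrrCharacter ↥(D.group K))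
    (hχ : classInner (perm ↥(D.group K) (↥(D.group K) ⧸ PJ cs hp.isCartan (TT D K) (XX D l K) J))
      (χ : ↥(D.group K) → ℂ) ≠ 0) : χ ∈ principalBlock M' ↥(D.group K) := by
  obtain ⟨t, ht, ht'⟩ := exists_test hpp.out hp2
  have hchk : chk D t (simp D) = true := by
    rcases ht with rfl | rfl | rfl
    · exact h.1
    · exact h.2.1
    · exact h.2.2
  refine mem_one_chev hp cs hd ht' (S := simp D) ?_ ?_ hchk hM J χ hχ
  · intro s hs
    obtain ⟨i, hi, rfl⟩ := List.mem_map.1 hs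
    rw [List.mem_range] at hi
    exact simple_lt hp.inList hi
  · intro f hf i
    have h1 := hf (D.simple i) (List.mem_map.2 ⟨i, List.mem_range.2 (lt_rank hp i), rfl⟩)
    rwa [vec_simple hp i] at h1

end Main

section Types

variable {K : Type u} [Field K] [Fintype K] {p : ℕ} [Fact p.Prime]

open Cfsg.Agent.H35.ExcIdx (hpE6 hpE7 hpE8 hpF4) in
/-- `F₄(q)`, `p ∣ q - 1` -/
theorem mem_one_F4 [Fintype ↥(Lie.chevF4.group K)] (hp2 : p ≠ 2) (hd : p ∣ Fintype.card K - 1) {M' : Ideal AlgInt}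
    (hM : IsPModular p M') (J : Set (Fin 4)) (χ : IrrCharacter ↥(Lie.chevF4.group K))
    (hχ : classInner (perm ↥(Lie.chevF4.group K) (↥(Lie.chevF4.group K) ⧸
      PJ CoxeterMatrix.F₄.toCoxeterSystem hpF4.isCartan (H35.ExcIdx.TT chevF4 K) (H35.ExcIdx.XX chevF4 4 K) J))
      (χ : ↥(Lie.chevF4.group K) → ℂ) ≠ 0) : χ ∈ principalBlock M' ↥(Lie.chevF4.group K) :=
  mem_one_simp hpF4 _ hp2 (by rwa [Nat.card_eq_fintype_card]) chk_F4 hM J χ hχ

open Cfsg.Agent.H35.ExcIdx (hpE6 hpE7 hpE8 hpF4) in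
/-- `E₆(q)`, `p ∣ q - 1` -/
theorem mem_one_E6 [Fintype ↥(Lie.chevE6.group K)] (hp2 : p ≠ 2) (hd : p ∣ Fintype.card K - 1) {M' : Ideal AlgInt}
    (hM : IsPModular p M') (J : Set (Fin 6)) (χ : IrrCharacter ↥(Lie.chevE6.group K))
    (hχ : classInner (perm ↥(Lie.chevE6.group K) (↥(Lie.chevE6.group K) ⧸
      PJ CoxeterMatrix.E₆.toCoxeterSystem hpE6.isCartan (H35.ExcIdx.TT chevE6 K) (H35.ExcIdx.XX chevE6 6 K) J))
      (χ : ↥(Lie.chevE6.group K) → ℂ) ≠ 0) : χ ∈ principalBlock M' ↥(Lie.chevE6.group K) :=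
  mem_one_simp hpE6 _ hp2 (by rwa [Nat.card_eq_fintype_card]) chk_E6 hM J χ hχ

open Cfsg.Agent.H35.ExcIdx (hpE6 hpE7 hpE8 hpF4) in
/-- `E₇(q)`, `p ∣ q - 1` -/
theorem mem_one_E7 [Fintype ↥(Lie.chevE7.group K)] (hp2 : p ≠ 2) (hd : p ∣ Fintype.card K - 1) {M' : Ideal AlgInt}
    (hM : IsPModular p M') (J : Set (Fin 7)) (χ : IrrCharacter ↥(Lie.chevE7.group K))
    (hχ : classInner (perm ↥(Lie.chevE7.group K) (↥(Lie.chevE7.group K) ⧸
      PJ CoxeterMatrix.E₇.toCoxeterSystem hpE7.isCartan (H35.ExcIdx.TT chevE7 K) (H35.ExcIdx.XX chevE7 7 K) J))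
      (χ : ↥(Lie.chevE7.group K) → ℂ) ≠ 0) : χ ∈ principalBlock M' ↥(Lie.chevE7.group K) :=
  mem_one_simp hpE7 _ hp2 (by rwa [Nat.card_eq_fintype_card]) chk_E7 hM J χ hχ

open Cfsg.Agent.H35.ExcIdx (hpE6 hpE7 hpE8 hpF4) in
/-- `E₈(q)`, `p ∣ q - 1` -/
theorem mem_one_E8 [Fintype ↥(Lie.chevE8.group K)] (hp2 : p ≠ 2) (hd : p ∣ Fintype.card K - 1) {M' : Ideal AlgInt}
    (hM : IsPModular p M') (J : Set (Fin 8)) (χ : IrrCharacter ↥(Lie.chevE8.group K))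
    (hχ : classInner (perm ↥(Lie.chevE8.group K) (↥(Lie.chevE8.group K) ⧸
      PJ CoxeterMatrix.E₈.toCoxeterSystem hpE8.isCartan (H35.ExcIdx.TT chevE8 K) (H35.ExcIdx.XX chevE8 8 K) J))
      (χ : ↥(Lie.chevE8.group K) → ℂ) ≠ 0) : χ ∈ principalBlock M' ↥(Lie.chevE8.group K) :=
  mem_one_simp hpE8 _ hp2 (by rwa [Nat.card_eq_fintype_card]) chk_E8 hM J χ hχ

end Types

end Cfsg.Agent.H631.HT
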