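import Cfsg.Agent.H631.HT.MemOne
import Cfsg.Agent.H77.RK.Deg
import Cfsg.Agent.H307.XC.TypOne
import Cfsg.Agent.H316.HT.Defs

/-!
# The constituents of `1_P^G` with certificates of helper77: membership, height, automorphisms (helper631, S4933)

* `chkV`, `vd_of_chkV` : the exponent of `p` in the degree from the residues modulo `p ^ (v + 1)`;
* `chkB` : the eigenvalues are congruent to the subdegrees modulo the polynomial `X ^ |φ| + φ`;
* `Inv` : invariance of the class of the parabolic subgroup and of the character under the automorphisms of trivial type;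
* `cert_box` : all together; `typ_E7`, `typ_E8`, `typ_E6_odd` : the types of the automorphisms.
-/

set_option autoImplicit false
set_option linter.unusedSectionVars false

namespace Cfsg.Agent.H631.HT

open CoxeterSystem Cfsg Cfsg.Lie
open Cfsg.Agent.ChevalleyStructure Cfsg.Agent.ChevalleyStructure.CoxeterGeom
  Cfsg.Agent.ChevalleyStructure.CoxeterGeomTypes Cfsg.Agent.ChevalleyStructure.NPerm
open Cfsg.Agent.Tits.Roots Cfsg.Agent.Tits.Core Cfsg.Agent.Nodes.Reps Cfsg.Agent.Nodes.BNOf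
  Cfsg.Agent.Nodes.RGDChev Cfsg.Agent.Nodes.Bruhat Cfsg.Agent.Nodes.StabComb Cfsg.Agent.Nodes.LeviDec
  Cfsg.Agent.H35.ExcIdx
open Cfsg.Agent.H116.HeckeD (perm)
open Cfsg.Agent.H77.RK Cfsg.Agent.H116.StAut
open Cfsg.Agent.H316.HT (vd)

universe u

/-! ### The height -/

/-- the exponent of `p` in the value of the polynomial is `v`, for all arguments with `cond (q % p ^ (v + 1))` -/
def chkV (p v : ℕ) (cond : ℕ → Bool) (L : List ℤ) : Bool :=
  (List.range (p ^ (v + 1))).all fun t => !(cond t) ||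
    (decide (evL (t : ℤ) L % ((p ^ v : ℕ) : ℤ) = 0) && decide (evL (t : ℤ) L % ((p ^ (v + 1) : ℕ) : ℤ) ≠ 0))

theorem evL_modEq {a b m : ℤ} (h : a ≡ b [ZMOD m]) (L : List ℤ) : evL a L ≡ evL b L [ZMOD m] := by
  induction L with
  | nil => exact Int.ModEq.refl _
  | cons c L ih =>
    rw [evL_cons, evL_cons]
    exact Int.ModEq.add_left _ (h.mul ih)

/-- **The exponent of `p` in the degree.** -/
theorem factorization_of_chkV {p v : ℕ} [hpp : Fact p.Prime] (hp2 : p ≠ 2) {cond : ℕ → Bool} {L : List ℤ}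
    (hv : chkV p v cond L = true) {q d : ℕ} (hq : cond (q % p ^ (v + 1)) = true) (hd : 2 * (d : ℤ) = evL (q : ℤ) L) :
    d.factorization p = v := by
  have hpos : 0 < p ^ (v + 1) := pow_pos hpp.out.pos _
  unfold chkV at hv
  rw [List.all_eq_true] at hv
  have h1 := hv (q % p ^ (v + 1)) (List.mem_range.2 (Nat.mod_lt _ hpos))
  rw [hq] at h1
  simp only [Bool.not_true, Bool.false_or, Bool.and_eq_true, decide_eq_true_eq] at h1
  obtain ⟨h1, h2⟩ := h1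
  have h3 : ((q % p ^ (v + 1) : ℕ) : ℤ) ≡ (q : ℤ) [ZMOD ((p ^ (v + 1) : ℕ) : ℤ)] := by
    rw [Int.natCast_mod]
    exact Int.mod_modEq _ _
  have h4 := evL_modEq h3 L
  rw [← hd] at h4
  have hdvd : ((p ^ v : ℕ) : ℤ) ∣ ((p ^ (v + 1) : ℕ) : ℤ) := by
    exact_mod_cast pow_dvd_pow p (Nat.le_succ v)
  have h5 : ((p ^ v : ℕ) : ℤ) ∣ 2 * (d : ℤ) := by
    refine (Int.ModEq.dvd_iff (h4.of_dvd hdvd)).1 (Int.dvd_of_emod_eq_zero h1)
  have h6 : ¬ ((p ^ (v + 1) : ℕ) : ℤ) ∣ 2 * (d : ℤ) := by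
    intro h7
    exact h2 (Int.emod_eq_zero_of_dvd ((Int.ModEq.dvd_iff h4).2 h7))
  have h5' : p ^ v ∣ 2 * d := by exact_mod_cast h5
  have h6' : ¬ p ^ (v + 1) ∣ 2 * d := by
    intro h
    exact h6 (by exact_mod_cast h)
  have hcop : ∀ k, Nat.Coprime (p ^ k) 2 := fun k =>
    Nat.Coprime.pow_left k ((Nat.coprime_primes hpp.out Nat.prime_two).2 hp2)
  have h7 : p ^ v ∣ d := (hcop v).dvd_of_dvd_mul_left h5'
  have h8 : ¬ p ^ (v + 1) ∣ d := fun h => h6' (h.mul_left 2)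
  have hd0 : d ≠ 0 := by
    rintro rfl
    exact h8 (dvd_zero _)
  have h9 := (hpp.out.pow_dvd_iff_le_factorization hd0).1 h7
  have h10 := mt (hpp.out.pow_dvd_iff_le_factorization hd0).2 h8
  omega

/-! ### The membership -/

/-- the eigenvalues of `χ i` are congruent to those of the trivial character modulo the polynomial -/
def chkB (c : Cert) (φ : List ℤ) (i : ℕ) : Bool :=
  (List.range c.r).all fun a =>
    (remL φ (addL (c.P i a) (smulL (-1) (c.P (c.r - 1) a)))).all fun d => decide (d = 0)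

/-- the divisibility -/
theorem dvd_of_chkB {c : Cert} {φ : List ℤ} {i : ℕ} (h : chkB c φ i = true) {p q : ℕ} [Fact p.Prime] (h0 : φ ≠ [])
    (hφ : (p : ℤ) ∣ (q : ℤ) ^ φ.length + evL (q : ℤ) φ) (a : ℕ) (ha : a < c.r) :
    (p : ℤ) ∣ evL (q : ℤ) (c.P (c.r - 1) a) - evL (q : ℤ) (c.P i a) := by
  have hφ' : ((q : ℤ) : ZMod p) ^ φ.length + evL ((q : ℤ) : ZMod p) φ = 0 := by
    have e1 := (ZMod.intCast_zmod_eq_zero_iff_dvd _ p).2 hφ
    rw [Int.cast_add, cast_evL, Int.cast_pow] at e1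
    exact e1
  unfold chkB at h
  rw [List.all_eq_true] at h
  have e2 := evL_of_all_zero ((q : ℤ) : ZMod p) _ (h a (List.mem_range.2 ha))
  rw [evL_remL hφ' h0, evL_addL, evL_smulL, ← cast_evL, ← cast_evL] at e2
  have e3 : (((evL (q : ℤ) (c.P i a) + (-1) * evL (q : ℤ) (c.P (c.r - 1) a) : ℤ)) : ZMod p) = 0 := by
    push_cast
    push_cast at e2
    exact e2
  obtain ⟨z, hz⟩ := (ZMod.intCast_zmod_eq_zero_iff_dvd _ p).1 e3
  refine ⟨-z, ?_⟩
  linear_combination -hz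

/-! ### The automorphisms -/

section Inv

variable {I W S : Type*} [Fintype I] [DecidableEq I] [Group W] [Finite W] [Group S] [Finite S] {Mx : CoxeterMatrix I}
  {cs : CoxeterSystem Mx W} {A : I → I → ℤ} {h : IsCartan Mx A} {r : ℕ} [Fact r.Prime] {T : Subgroup S} {n : I → S}
  {X : (I → ℤ) → Subgroup S} (R : RGD cs h r T n X)

include R in
/-- an automorphism of trivial type maps the parabolic subgroups to conjugates -/
theorem cls_of_typ (hG : GG cs h T X = ⊤) {α : MulAut S} (hα : typHom R hG α = 1) (J : Set I) :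
    ∃ s : S, ∀ x : S, s * α x * s⁻¹ ∈ PJ cs h T X J ↔ x ∈ PJ cs h T X J := by
  refine ⟨(gel R hG α)⁻¹, fun x => ?_⟩
  have h1 := gel_spec R hG α J x
  have h2 : typ R hG α = 1 := hα
  rw [h2, Equiv.Perm.coe_one, Set.image_id] at h1
  rw [inv_inv]
  exact h1

include R in
/-- an automorphism of trivial type fixes the constituents of `1_P^S` -/
theorem inv_of_typ' (hG : GG cs h T X = ⊤) {α : MulAut S} (hα : typHom R hG α = 1) (J : Set I) [Fintype S]
    (ψ : IrrCharacter S) (hψ : classInner (perm S (S ⧸ PJ cs h T X J)) (ψ : S → ℂ) ≠ 0) (s : S) :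
    (ψ : S → ℂ) (α s) = (ψ : S → ℂ) s := by
  refine H307.XC.inv_of_perm R hG ψ (H307.XC.perm_of_PJ R hG J ?_) α hα s
  rw [H674.XZ.ip_eq]
  exact hψ

end Inv

/-! ### Types of automorphisms -/

section Typ

theorem inv_step {l : ℕ} {M : CoxeterMatrix (Fin l)} {σ : Equiv.Perm (Fin l)}
    (hσ : ∀ i j, M (σ i) (σ j) = M i j) {g g' : Fin l → ℕ} (hg : ∀ i, g (σ i) = g i)
    (h : ∀ i, g' i = ∑ j, if M i j = 2 ∨ M i j = 1 then 0 else g j) (i : Fin l) : g' (σ i) = g' i := by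
  rw [h, h, ← Equiv.sum_comp σ]
  refine Finset.sum_congr rfl fun j _ => ?_
  rw [hσ, hg]

theorem sym_one {l : ℕ} {g : Fin l → ℕ} {σ : Equiv.Perm (Fin l)}
    (hg : ∀ i, g (σ i) = g i) (hf : ∀ i j, g i = g j → i = j) : σ = 1 := by
  ext i
  rw [Equiv.Perm.one_apply, hf _ _ (hg i)]

theorem sym_E7 (σ : Equiv.Perm (Fin 7)) (hσ : ∀ i j, CoxeterMatrix.E₇ (σ i) (σ j) = CoxeterMatrix.E₇ i j) :
    σ = 1 := by
  have h1 : ∀ i, (![1, 1, 2, 3, 2, 2, 1] : Fin 7 → ℕ) (σ i) = (![1, 1, 2, 3, 2, 2, 1] : Fin 7 → ℕ) i :=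
    inv_step hσ (g := fun _ => 1) (fun _ => rfl) (by decide)
  have h2 : ∀ i, (![2, 3, 4, 5, 5, 3, 2] : Fin 7 → ℕ) (σ i) = (![2, 3, 4, 5, 5, 3, 2] : Fin 7 → ℕ) i :=
    inv_step hσ h1 (by decide)
  have h3 : ∀ i, (![4, 5, 7, 12, 8, 7, 3] : Fin 7 → ℕ) (σ i) = (![4, 5, 7, 12, 8, 7, 3] : Fin 7 → ℕ) i :=
    inv_step hσ h2 (by decide)
  refine sym_one (g := ![4, 5, 7, 12, 8, 7, 3] + 100 • ![2, 3, 4, 5, 5, 3, 2])
    (fun i => ?_) (by decide)
  rw [Pi.add_apply, Pi.add_apply, Pi.smul_apply, Pi.smul_apply, h2, h3]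

theorem sym_E8 (σ : Equiv.Perm (Fin 8)) (hσ : ∀ i j, CoxeterMatrix.E₈ (σ i) (σ j) = CoxeterMatrix.E₈ i j) :
    σ = 1 := by
  have h1 : ∀ i, (![1, 1, 2, 3, 2, 2, 2, 1] : Fin 8 → ℕ) (σ i) = (![1, 1, 2, 3, 2, 2, 2, 1] : Fin 8 → ℕ) i :=
    inv_step hσ (g := fun _ => 1) (fun _ => rfl) (by decide)
  have h2 : ∀ i, (![2, 3, 4, 5, 5, 4, 3, 2] : Fin 8 → ℕ) (σ i) = (![2, 3, 4, 5, 5, 4, 3, 2] : Fin 8 → ℕ) i :=
    inv_step hσ h1 (by decide)
  exact sym_one (g := ![4, 5, 7, 12, 9, 8, 6, 3])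
    (fun i => inv_step hσ h2 (by decide) i) (by decide)

/-- symmetries of `E₆` have square `1` -/
theorem sym_E6 (σ : Equiv.Perm (Fin 6)) (hσ : ∀ i j, CoxeterMatrix.E₆ (σ i) (σ j) = CoxeterMatrix.E₆ i j) :
    σ * σ = 1 := by
  have h1 : ∀ i, (![1, 1, 2, 3, 2, 1] : Fin 6 → ℕ) (σ i) = (![1, 1, 2, 3, 2, 1] : Fin 6 → ℕ) i :=
    inv_step hσ (g := fun _ => 1) (fun _ => rfl) (by decide)
  have h2 : ∀ i, (![2, 3, 4, 5, 4, 2] : Fin 6 → ℕ) (σ i) = (![2, 3, 4, 5, 4, 2] : Fin 6 → ℕ) i :=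
    inv_step hσ h1 (by decide)
  have key : ∀ i j : Fin 6, (![2, 3, 4, 5, 4, 2] : Fin 6 → ℕ) i = (![2, 3, 4, 5, 4, 2] : Fin 6 → ℕ) j →
      i = j ∨ (i = 0 ∧ j = 5) ∨ (i = 5 ∧ j = 0) ∨ (i = 2 ∧ j = 4) ∨ (i = 4 ∧ j = 2) := by decide
  ext i
  rw [Equiv.Perm.mul_apply, Equiv.Perm.one_apply]
  rcases key _ _ (h2 i) with h3 | ⟨h3, h4⟩ | ⟨h3, h4⟩ | ⟨h3, h4⟩ | ⟨h3, h4⟩
  · rw [h3, h3]
  · subst h4
    rw [h3]
    rcases key _ _ (h2 0) with h5 | ⟨h5, h6⟩ | ⟨h5, h6⟩ | ⟨h5, h6⟩ | ⟨h5, h6⟩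
    · exact absurd (σ.injective (h5.trans h3.symm)) (by decide)
    · exact absurd h6 (by decide)
    · rw [h5]
    · exact absurd h6 (by decide)
    · exact absurd h6 (by decide)
  · subst h4
    rw [h3]
    rcases key _ _ (h2 5) with h5 | ⟨h5, h6⟩ | ⟨h5, h6⟩ | ⟨h5, h6⟩ | ⟨h5, h6⟩
    · exact absurd (σ.injective (h5.trans h3.symm)) (by decide)
    · rw [h5]
    · exact absurd h6 (by decide)
    · exact absurd h6 (by decide)
    · exact absurd h6 (by decide)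
  · subst h4
    rw [h3]
    rcases key _ _ (h2 2) with h5 | ⟨h5, h6⟩ | ⟨h5, h6⟩ | ⟨h5, h6⟩ | ⟨h5, h6⟩
    · exact absurd (σ.injective (h5.trans h3.symm)) (by decide)
    · exact absurd h6 (by decide)
    · exact absurd h6 (by decide)
    · exact absurd h6 (by decide)
    · rw [h5]
  · subst h4
    rw [h3]
    rcases key _ _ (h2 4) with h5 | ⟨h5, h6⟩ | ⟨h5, h6⟩ | ⟨h5, h6⟩ | ⟨h5, h6⟩
    · exact absurd (σ.injective (h5.trans h3.symm)) (by decide)
    · exact absurd h6 (by decide)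
    · exact absurd h6 (by decide)
    · rw [h5]
    · exact absurd h6 (by decide)

variable {S : Type*} [Group S] [Finite S] {r : ℕ} [Fact r.Prime]

/-- `E₇`: all automorphisms have trivial type -/
theorem typ_E7 {W : Type*} [Group W] [Finite W] {cs : CoxeterSystem CoxeterMatrix.E₇ W} {A : Fin 7 → Fin 7 → ℤ}
    {h : IsCartan CoxeterMatrix.E₇ A} {T : Subgroup S} {n : Fin 7 → S} {X : (Fin 7 → ℤ) → Subgroup S}
    (R : RGD cs h r T n X) (hG : GG cs h T X = ⊤) (α : MulAut S) : typHom R hG α = 1 :=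
  sym_E7 _ (H307.XC.typ_matrix R hG α)

/-- `E₈`: all automorphisms have trivial type -/
theorem typ_E8 {W : Type*} [Group W] [Finite W] {cs : CoxeterSystem CoxeterMatrix.E₈ W} {A : Fin 8 → Fin 8 → ℤ}
    {h : IsCartan CoxeterMatrix.E₈ A} {T : Subgroup S} {n : Fin 8 → S} {X : (Fin 8 → ℤ) → Subgroup S}
    (R : RGD cs h r T n X) (hG : GG cs h T X = ⊤) (α : MulAut S) : typHom R hG α = 1 :=
  sym_E8 _ (H307.XC.typ_matrix R hG α)

/-- `E₆`: automorphisms of odd order have trivial type -/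
theorem typ_E6 {W : Type*} [Group W] [Finite W] {cs : CoxeterSystem CoxeterMatrix.E₆ W} {A : Fin 6 → Fin 6 → ℤ}
    {h : IsCartan CoxeterMatrix.E₆ A} {T : Subgroup S} {n : Fin 6 → S} {X : (Fin 6 → ℤ) → Subgroup S}
    (R : RGD cs h r T n X) (hG : GG cs h T X = ⊤) {α : MulAut S} {k : ℕ} (hk : Odd k) (hα : α ^ k = 1) :
    typHom R hG α = 1 := by
  have h1 := sym_E6 _ (H307.XC.typ_matrix R hG α)
  obtain ⟨m, rfl⟩ := hk
  have h2 : typHom R hG α ^ (2 * m + 1) = 1 := by rw [← map_pow, hα, map_one]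
  rwa [pow_succ, pow_mul, pow_two, h1, one_pow, one_mul] at h2

end Typ

/-! ### All together -/

section Box

/-- **One constituent of `1_P^S` for the certificates of helper77.** -/
theorem cert_box {c : Cert} (hc : c.Ok) {Dg : List (List ℤ)} (hD : c.chkD Dg = true) {D : ChevalleyDatum} {l : ℕ}
    (hl : c.l = l) {M : CoxeterMatrix (Fin l)} (hp : IsType D l M)
    (hAA : ∀ i j : Fin l, cartanOf D l i j = c.A (Fin.cast hl.symm i) (Fin.cast hl.symm j))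
    (K : Type u) [Field K] [Fintype K] [Fintype ↥(D.group K)] {k0 : Fin l} (hk0 : k0.val = c.k)
    {r : ℕ} [Fact r.Prime] [CharP K r]
    {n : Fin l → ↥(D.group K)} [Finite M.Group] (R : RGD M.toCoxeterSystem hp.isCartan r (TT D K) n (XX D l K))
    (hG : GG M.toCoxeterSystem hp.isCartan (TT D K) (XX D l K) = ⊤)
    {p : ℕ} [hpp : Fact p.Prime] (hp2 : p ≠ 2) {i : ℕ} (hi : i < c.r) {v : ℕ} {cond : ℕ → Bool}
    (hv : chkV p v cond (Dg.getD i []) = true) (hcond : cond (Fintype.card K % p ^ (v + 1)) = true)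
    (hmem : (∀ (M' : Ideal AlgInt), IsPModular p M' → ∀ χ : IrrCharacter ↥(D.group K),
        classInner (perm ↥(D.group K) (↥(D.group K) ⧸
          PJ M.toCoxeterSystem hp.isCartan (TT D K) (XX D l K) {j | j ≠ k0})) (χ : ↥(D.group K) → ℂ) ≠ 0 →
        χ ∈ principalBlock M' ↥(D.group K)) ∨
      ∃ φ : List ℤ, φ ≠ [] ∧ (p : ℤ) ∣ (Fintype.card K : ℤ) ^ φ.length + evL (Fintype.card K : ℤ) φ ∧
        chkB c φ i = true) :
    ∃ ψ : IrrCharacter ↥(D.group K),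
      classInner (perm ↥(D.group K) (↥(D.group K) ⧸
        PJ M.toCoxeterSystem hp.isCartan (TT D K) (XX D l K) {j | j ≠ k0})) (ψ : ↥(D.group K) → ℂ) = 1 ∧
      (∀ M' : Ideal AlgInt, IsPModular p M' → ψ ∈ principalBlock M' ↥(D.group K)) ∧
      vd p (ψ : ↥(D.group K) → ℂ) = v ∧
      ∀ α : MulAut ↥(D.group K), typHom R hG α = 1 →
        (∃ s : ↥(D.group K), ∀ x : ↥(D.group K),
          s * α x * s⁻¹ ∈ PJ M.toCoxeterSystem hp.isCartan (TT D K) (XX D l K) {j | j ≠ k0} ↔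
          x ∈ PJ M.toCoxeterSystem hp.isCartan (TT D K) (XX D l K) {j | j ≠ k0}) ∧
        ∀ s : ↥(D.group K), (ψ : ↥(D.group K) → ℂ) (α s) = (ψ : ↥(D.group K) → ℂ) s := by
  obtain ⟨χ, h1, h2, h3, h4, h5, h6, h7⟩ := Cert.exists_chev hc hD hl hp hAA K hk0
  have hne : classInner (perm ↥(D.group K) (↥(D.group K) ⧸
      PJ M.toCoxeterSystem hp.isCartan (TT D K) (XX D l K) {j | j ≠ k0})) (χ ⟨i, hi⟩ : ↥(D.group K) → ℂ) ≠ 0 := by
    rw [h3]
    exact one_ne_zero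
  refine ⟨χ ⟨i, hi⟩, h3 _, fun M' hM => ?_, ?_, fun α hα => ⟨cls_of_typ R hG hα _, fun s =>
    inv_of_typ' R hG hα _ _ hne s⟩⟩
  · rcases hmem with hmem | ⟨φ, h0, hφ, hB⟩
    · exact hmem M' hM _ hne
    · rw [Blocks.PrincipalSection.mem_principalBlock_iff]
      have hr : c.r - 1 < c.r := by omega
      have e1 := h7 p M' hM ⟨c.r - 1, hr⟩ ⟨i, hi⟩ fun a ha => dvd_of_chkB hB h0 hφ a ha
      rw [h6 _ rfl] at e1
      exact e1
  · exact factorization_of_chkV hp2 hv hcond (h5 ⟨i, hi⟩)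

end Box

end Cfsg.Agent.H631.HT
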