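import Cfsg.Agent.H631.HT.CertU
import Cfsg.Agent.H77.RK.TabE67

/-!
# `E₇(q)`, `p = 7`, `7 ∣ q ^ 2 - 1`: the character `q Φ₇ Φ₁₂ Φ₁₄` (helper631, S4933)
-/

set_option autoImplicit false
set_option linter.unusedSectionVars false

namespace Cfsg.Agent.H631.HT

open CoxeterSystem Cfsg Cfsg.Lie
open Cfsg.Agent.ChevalleyStructure Cfsg.Agent.ChevalleyStructure.CoxeterGeom
  Cfsg.Agent.ChevalleyStructure.CoxeterGeomTypes Cfsg.Agent.ChevalleyStructure.NPerm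
open Cfsg.Agent.Tits.Roots Cfsg.Agent.Tits.Core Cfsg.Agent.Nodes.Reps Cfsg.Agent.Nodes.BNOf
  Cfsg.Agent.Nodes.RGDChev Cfsg.Agent.Nodes.Bruhat Cfsg.Agent.Nodes.StabComb Cfsg.Agent.Nodes.LeviDec
  Cfsg.Agent.H35.ExcIdx
open Cfsg.Agent.H116.HeckeD (perm)
open Cfsg.Agent.H77.RK Cfsg.Agent.H116.StAut
open Cfsg.Agent.H316.HT (vd)

universe u

theorem cartan77 : ∀ i j : Fin 7, cartanOf chevE7 7 i j = e77Cert.A (Fin.cast rfl i) (Fin.cast rfl j) := by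
  decide +kernel

theorem e7_seven_chk : chkV 7 1 (fun t => t % 7 == 1 || t % 7 == 6) (e77Dg.getD 2 []) = true ∧
    chkB e77Cert [1] 2 = true := by
  decide +kernel

/-- `p ∣ q ^ 2 - 1` -/
theorem dvd_cases {p q : ℕ} (hp : p.Prime) (hq : 1 ≤ q) (h : p ∣ q ^ 2 - 1) : p ∣ q - 1 ∨ p ∣ q + 1 := by
  have e : q ^ 2 - 1 = (q - 1) * (q + 1) := by
    obtain ⟨k, rfl⟩ := Nat.exists_eq_add_of_le hq
    rw [Nat.add_sub_cancel_left]
    have : (1 + k) ^ 2 = k * (1 + k + 1) + 1 := by ring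
    rw [this, Nat.add_sub_cancel]
  rw [e] at h
  exact hp.dvd_mul.1 h

/-- **`E₇(q)`, `p = 7`.** -/
theorem box_E7_seven [Fact (Nat.Prime 7)] (K : Type u) [Field K] [Fintype K] [Fintype ↥(chevE7.group K)]
    (hq : 7 ∣ Fintype.card K ^ 2 - 1) :
    ∃ (H : Subgroup ↥(chevE7.group K)) (ψ : IrrCharacter ↥(chevE7.group K)),
      classInner (perm ↥(chevE7.group K) (↥(chevE7.group K) ⧸ H)) (ψ : ↥(chevE7.group K) → ℂ) = 1 ∧
      (∀ M' : Ideal AlgInt, IsPModular 7 M' → ψ ∈ principalBlock M' ↥(chevE7.group K)) ∧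
      vd 7 (ψ : ↥(chevE7.group K) → ℂ) = 1 ∧
      ∀ α : MulAut ↥(chevE7.group K), (∃ s : ↥(chevE7.group K), ∀ x, s * α x * s⁻¹ ∈ H ↔ x ∈ H) ∧
        ∀ s, (ψ : ↥(chevE7.group K) → ℂ) (α s) = (ψ : ↥(chevE7.group K) → ℂ) s := by
  obtain ⟨r, hr⟩ := CharP.exists K
  have hrp : Fact r.Prime := ⟨CharP.char_is_prime K r⟩
  have hfin : Finite CoxeterMatrix.E₇.Group := finite_W hpE7 CoxeterMatrix.E₇.toCoxeterSystem
  have R := rgd (K := K) hpE7 CoxeterMatrix.E₇.toCoxeterSystem r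
  have hG := Cfsg.Agent.BpExc.TorChev.GG_top (K := K) hpE7 CoxeterMatrix.E₇.toCoxeterSystem
  have h1 : 1 ≤ Fintype.card K := Fintype.card_pos
  have hc : (fun t => t % 7 == 1 || t % 7 == 6) (Fintype.card K % 7 ^ (1 + 1)) = true := by
    have h2 : Fintype.card K % 7 ^ (1 + 1) % 7 = Fintype.card K % 7 := Nat.mod_mod_of_dvd _ (by norm_num)
    show (Fintype.card K % 7 ^ (1 + 1) % 7 == 1 || Fintype.card K % 7 ^ (1 + 1) % 7 == 6) = true
    rw [h2, Bool.or_eq_true, beq_iff_eq, beq_iff_eq]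
    rcases dvd_cases (by norm_num) h1 hq with h | h <;> omega
  obtain ⟨ψ, a1, a2, a3, a4⟩ := cert_box e77_ok e77_chkD (l := 7) rfl hpE7 cartan77 K (k0 := 6) rfl R hG
    (p := 7) (by norm_num) (i := 2) (by decide) (v := 1) e7_seven_chk.1 hc (by
      rcases dvd_cases (by norm_num) h1 hq with h | h
      · exact Or.inl fun M' hM χ hχ => mem_one_E7 (p := 7) (by norm_num) h hM _ χ hχ
      · refine Or.inr ⟨[1], by simp, ?_, e7_seven_chk.2⟩
        have h2 : (Fintype.card K : ℤ) ^ ([1] : List ℤ).length + evL (Fintype.card K : ℤ) [1] =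
            ((Fintype.card K + 1 : ℕ) : ℤ) := by
          simp [evL]
        rw [h2]
        exact_mod_cast h)
  exact ⟨_, ψ, a1, a2, a3, fun α => a4 α (typ_E7 R hG α)⟩

end Cfsg.Agent.H631.HT
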